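import Mathlib

/-!
# Central division algebras of dimension 4 are quaternion algebras (characteristic ≠ 2)
-/

set_option autoImplicit false

namespace Groth.Agent.Helper19.Quat

universe u v

section
variable {k : Type u} [Field k] {D : Type v} [DivisionRing D] [Algebra k D]

theorem pair_eq_zero {x : D} (hx : x ∉ Set.range (algebraMap k D)) {s t : k}
    (hst : s • (1 : D) + t • x = 0) : s = 0 ∧ t = 0 := by
  have ht : t = 0 := by
    by_contra ht
    apply hx
    refine ⟨-(t⁻¹ * s), ?_⟩
    have h3 : t • x = -(s • (1 : D)) := by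
      rw [eq_neg_iff_add_eq_zero, add_comm]; exact hst
    have h4 : x = t⁻¹ • (-(s • (1 : D))) := (eq_inv_smul_iff₀ ht).2 h3
    rw [h4, Algebra.algebraMap_eq_smul_one, smul_neg, smul_smul, neg_smul]
  subst ht
  rw [zero_smul, add_zero] at hst
  exact ⟨(smul_eq_zero.1 hst).resolve_right one_ne_zero, rfl⟩

theorem arith_key (n c : ℕ) (h : n * c = 4) (h1 : n ≠ 1) (h4 : n ≠ 4) : n = 2 := by
  have hn : n ≤ 4 := by
    rcases Nat.eq_zero_or_pos c with hc | hc
    · rw [hc] at h; omega
    · nlinarith
  interval_cases n <;> omega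

/-- An element outside `k` in a 4-dimensional central division algebra satisfies a quadratic
equation. -/
theorem exists_quadratic [Algebra.IsCentral k D] (h4 : Module.finrank k D = 4)
    (x : D) (hx : x ∉ Set.range (algebraMap k D)) :
    ∃ α β : k, x * x = α • (1 : D) + β • x := by
  haveI : FiniteDimensional k D := Module.finite_of_finrank_pos (by rw [h4]; norm_num)
  obtain ⟨K, hK⟩ : ∃ K : Subalgebra k D, K = Algebra.adjoin k {x} := ⟨_, rfl⟩
  have hxK : x ∈ K := by rw [hK]; exact Algebra.subset_adjoin (Set.mem_singleton x)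
  letI : DivisionRing K := divisionRingOfFiniteDimensional k K
  have hmul : Module.finrank k K * Module.finrank K D = Module.finrank k D :=
    Module.finrank_mul_finrank k K D
  rw [h4] at hmul
  have h1 : Module.finrank k K ≠ 1 := by
    intro h
    have hb : K = ⊥ := Subalgebra.eq_bot_of_finrank_one h
    rw [hb] at hxK
    exact hx (Algebra.mem_bot.1 hxK)
  have h4' : Module.finrank k K ≠ 4 := by
    intro h
    have ht : Subalgebra.toSubmodule K = ⊤ := by
      apply Submodule.eq_top_of_finrank_eq
      rw [Subalgebra.finrank_toSubmodule, h4]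
      exact h
    have hcomm : ∀ y : D, y * x = x * y := by
      intro y
      have hy : y ∈ K := by
        have hy' : y ∈ Subalgebra.toSubmodule K := by rw [ht]; exact Submodule.mem_top
        exact hy'
      have hle : K ≤ Subalgebra.centralizer k {x} := by
        rw [hK]
        refine Algebra.adjoin_le ?_
        intro z hz
        rw [Set.mem_singleton_iff] at hz
        subst hz
        exact (Subalgebra.mem_centralizer_iff k).2 (fun w hw => by
          rw [Set.mem_singleton_iff] at hw; rw [hw])
      exact ((Subalgebra.mem_centralizer_iff k).1 (hle hy) x (Set.mem_singleton x)).symm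
    have hxc : x ∈ Subalgebra.center k D := Subalgebra.mem_center_iff.2 hcomm
    obtain ⟨c, hc⟩ := (Algebra.IsCentral.mem_center_iff k).1 hxc
    exact hx ⟨c, hc.symm⟩
  have h2 : Module.finrank k K = 2 := arith_key _ _ hmul h1 h4'
  have hli : LinearIndependent k ![(1 : D), x] := by
    rw [LinearIndependent.pair_iff]
    intro s t hst
    exact pair_eq_zero hx hst
  have hspan : Submodule.span k (Set.range ![(1 : D), x]) = Subalgebra.toSubmodule K := by
    apply Submodule.eq_of_le_of_finrank_eq
    · rw [Submodule.span_le]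
      rintro _ ⟨i, rfl⟩
      fin_cases i
      · exact K.one_mem
      · exact hxK
    · rw [finrank_span_eq_card hli, Subalgebra.finrank_toSubmodule, Fintype.card_fin]
      exact h2.symm
  have hxx : x * x ∈ Submodule.span k (Set.range ![(1 : D), x]) := by
    rw [hspan]; exact K.mul_mem hxK hxK
  obtain ⟨c, hc⟩ := (Submodule.mem_span_range_iff_exists_fun k).1 hxx
  rw [Fin.sum_univ_two] at hc
  exact ⟨c 0, c 1, hc.symm⟩

/-- A central division algebra of dimension 4 over a field with `2 ≠ 0` is a quaternion
algebra. -/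
theorem exists_quaternion (h2 : (2 : k) ≠ 0) [Algebra.IsCentral k D]
    (h4 : Module.finrank k D = 4) :
    ∃ a b : k, Nonempty (QuaternionAlgebra k a 0 b ≃ₐ[k] D) := by
  haveI : FiniteDimensional k D := Module.finite_of_finrank_pos (by rw [h4]; norm_num)
  obtain ⟨x, hx⟩ : ∃ x : D, x ∉ Set.range (algebraMap k D) := by
    by_contra hcon
    push Not at hcon
    have hsurj : Function.Surjective (Algebra.linearMap k D) := hcon
    have hinj : Function.Injective (Algebra.linearMap k D) := (algebraMap k D).injective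
    have h5 := (LinearEquiv.ofBijective (Algebra.linearMap k D) ⟨hinj, hsurj⟩).finrank_eq
    rw [Module.finrank_self, h4] at h5
    norm_num at h5
  obtain ⟨α, β, hxx⟩ := exists_quadratic h4 x hx
  obtain ⟨γ, rfl⟩ : ∃ γ : k, γ + γ = β :=
    ⟨β * 2⁻¹, by rw [← mul_two, mul_assoc, inv_mul_cancel₀ h2, mul_one]⟩
  obtain ⟨i, hi⟩ : ∃ i : D, i = x - γ • (1 : D) := ⟨_, rfl⟩
  have hii : i * i = (α + γ * γ) • (1 : D) := by
    rw [hi, sub_mul, mul_sub, mul_sub, hxx]
    simp only [mul_smul_comm, smul_mul_assoc, mul_one, one_mul, smul_smul]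
    module
  have hik : i ∉ Set.range (algebraMap k D) := by
    rintro ⟨c, hc⟩
    apply hx
    refine ⟨c + γ, ?_⟩
    rw [map_add, hc, hi, Algebra.algebraMap_eq_smul_one, sub_add_cancel]
  have hi0 : i ≠ 0 := by
    intro h0
    exact hik ⟨0, by rw [map_zero, h0]⟩
  obtain ⟨y, hy⟩ : ∃ y : D, i * y ≠ y * i := by
    by_contra hcon
    push Not at hcon
    have hic : i ∈ Subalgebra.center k D :=
      Subalgebra.mem_center_iff.2 (fun y => (hcon y).symm)
    obtain ⟨c, hc⟩ := (Algebra.IsCentral.mem_center_iff k).1 hic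
    exact hik ⟨c, hc.symm⟩
  obtain ⟨j, hj⟩ : ∃ j : D, j = i * y - y * i := ⟨_, rfl⟩
  have hj0 : j ≠ 0 := by rw [hj]; exact sub_ne_zero.2 hy
  have hij : i * j = -(j * i) := by
    have e1 : i * (i * y) = (α + γ * γ) • y := by
      rw [← mul_assoc, hii, smul_mul_assoc, one_mul]
    have e2 : (y * i) * i = (α + γ * γ) • y := by
      rw [mul_assoc, hii, mul_smul_comm, mul_one]
    rw [hj, mul_sub, sub_mul, e1, e2, mul_assoc i y i]
    abel
  have hjji : i * (j * j) = (j * j) * i := by
    rw [← mul_assoc, hij, neg_mul, mul_assoc j i j, hij, mul_neg, neg_neg, mul_assoc]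
  have hind : ∀ c0 c1 c2 c3 : k,
      c0 • (1 : D) + c1 • i + c2 • j + c3 • (i * j) = 0 →
        c0 = 0 ∧ c1 = 0 ∧ c2 = 0 ∧ c3 = 0 := by
    intro c0 c1 c2 c3 h
    obtain ⟨u, hu⟩ : ∃ u : D, u = c0 • (1 : D) + c1 • i := ⟨_, rfl⟩
    obtain ⟨v, hv⟩ : ∃ v : D, v = c2 • (1 : D) + c3 • i := ⟨_, rfl⟩
    have h1 : u + v * j = 0 := by
      rw [hu, hv, add_mul, smul_mul_assoc, smul_mul_assoc, one_mul, ← add_assoc]; exact h
    have hiu : i * u = u * i := by
      rw [hu, mul_add, add_mul, mul_smul_comm, mul_smul_comm, smul_mul_assoc, smul_mul_assoc,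
        mul_one, one_mul]
    have hiv : i * v = v * i := by
      rw [hv, mul_add, add_mul, mul_smul_comm, mul_smul_comm, smul_mul_assoc, smul_mul_assoc,
        mul_one, one_mul]
    have h2' : (u - v * j) * i = 0 := by
      have h6 : (u - v * j) * i = i * (u + v * j) := by
        rw [sub_mul, mul_add, hiu, ← mul_assoc i v j, hiv, mul_assoc v i j, hij, mul_neg,
          mul_assoc v j i, sub_eq_add_neg]
      rw [h6, h1, mul_zero]
    have h3 : u - v * j = 0 := (mul_eq_zero.1 h2').resolve_right hi0
    have hu0 : u = 0 := by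
      have h5 : (2 : k) • u = 0 := by
        rw [two_smul]
        calc u + u = (u + v * j) + (u - v * j) := by abel
          _ = 0 := by rw [h1, h3, add_zero]
      exact (smul_eq_zero.1 h5).resolve_left h2
    have hvj : v * j = 0 := by rw [hu0, zero_add] at h1; exact h1
    have hv0 : v = 0 := (mul_eq_zero.1 hvj).resolve_right hj0
    rw [hu] at hu0
    rw [hv] at hv0
    obtain ⟨a0, a1⟩ := pair_eq_zero hik hu0
    obtain ⟨a2, a3⟩ := pair_eq_zero hik hv0
    exact ⟨a0, a1, a2, a3⟩
  have hspan : Submodule.span k (Set.range ![(1 : D), i, j, i * j]) = ⊤ := by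
    apply LinearIndependent.span_eq_top_of_card_eq_finrank'
    · rw [Fintype.linearIndependent_iff]
      intro g hg
      rw [Fin.sum_univ_four] at hg
      have hg' : g 0 • (1 : D) + g 1 • i + g 2 • j + g 3 • (i * j) = 0 := hg
      obtain ⟨a0, a1, a2, a3⟩ := hind _ _ _ _ hg'
      intro t
      fin_cases t
      · exact a0
      · exact a1
      · exact a2
      · exact a3
    · rw [Fintype.card_fin, h4]
  have hjjc : j * j ∈ Subalgebra.center k D := by
    rw [Subalgebra.mem_center_iff]
    intro z
    have hz : z ∈ Submodule.span k (Set.range ![(1 : D), i, j, i * j]) := by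
      rw [hspan]; exact Submodule.mem_top
    induction hz using Submodule.span_induction with
    | mem w hw =>
      obtain ⟨t, rfl⟩ := hw
      fin_cases t
      · show 1 * (j * j) = j * j * 1
        rw [one_mul, mul_one]
      · show i * (j * j) = j * j * i
        exact hjji
      · show j * (j * j) = j * j * j
        rw [mul_assoc]
      · show i * j * (j * j) = j * j * (i * j)
        rw [mul_assoc i j (j * j), ← mul_assoc j j j, ← mul_assoc i (j * j) j, hjji,
          mul_assoc (j * j) i j]
    | zero => rw [zero_mul, mul_zero]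
    | add w1 w2 _ _ hw1 hw2 => rw [add_mul, mul_add, hw1, hw2]
    | smul c w _ hw => rw [smul_mul_assoc, mul_smul_comm, hw]
  obtain ⟨b, hb⟩ := (Algebra.IsCentral.mem_center_iff k).1 hjjc
  let q : QuaternionAlgebra.Basis D (α + γ * γ) 0 b :=
    { i := i
      j := j
      k := i * j
      i_mul_i := by rw [hii, zero_smul, add_zero]
      j_mul_j := by rw [hb, Algebra.algebraMap_eq_smul_one]
      i_mul_j := rfl
      j_mul_i := by rw [zero_smul, zero_sub, hij, neg_neg] }
  have hinj : Function.Injective q.liftHom := by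
    rw [injective_iff_map_eq_zero]
    intro z hz
    have hz' : z.re • (1 : D) + z.imI • i + z.imJ • j + z.imK • (i * j) = 0 := by
      rw [← Algebra.algebraMap_eq_smul_one]; exact hz
    obtain ⟨a0, a1, a2, a3⟩ := hind _ _ _ _ hz'
    exact QuaternionAlgebra.ext a0 a1 a2 a3
  have hsurj : Function.Surjective q.liftHom := by
    have hfr : Module.finrank k (QuaternionAlgebra k (α + γ * γ) 0 b) = Module.finrank k D := by
      rw [QuaternionAlgebra.finrank_eq_four, h4]
    exact (LinearMap.injective_iff_surjective_of_finrank_eq_finrank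
      (f := q.liftHom.toLinearMap) hfr).1 hinj
  exact ⟨_, _, ⟨AlgEquiv.ofBijective q.liftHom ⟨hinj, hsurj⟩⟩⟩

end

end Groth.Agent.Helper19.Quat
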