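import Mathlib
import Groth.Agent.Lib.Helper19.Br.Quat
import Groth.Agent.Lib.Helper20.PerInd6
import Groth.Agent.S0193

/-!
# Matrix algebras over division quaternion algebras: index, period, uniqueness
-/

set_option autoImplicit false

namespace Groth.Agent.Helper19.Quat

universe u v w

section
variable {k : Type u} [Field k] {A : Type v} [Ring A] [Algebra k A] [Algebra.IsCentral k A]
  [IsSimpleRing A] [FiniteDimensional k A]

theorem size_ne_zero {R : Type w} [Ring R] [Algebra k R] {m : ℕ}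
    (e : A ≃ₐ[k] Matrix (Fin m) (Fin m) R) : m ≠ 0 := by
  rintro rfl
  haveI : Subsingleton A := e.toEquiv.subsingleton
  exact not_subsingleton A ‹_›

theorem quat_unique_div (a b : k) (m : ℕ)
    (hQ : ∀ x : QuaternionAlgebra k a 0 b, x ≠ 0 → IsUnit x)
    (e : A ≃ₐ[k] Matrix (Fin m) (Fin m) (QuaternionAlgebra k a 0 b))
    {D' : Type w} [DivisionRing D'] [Algebra k D'] [Algebra.IsCentral k D']
    [FiniteDimensional k D'] (m' : ℕ) (hm' : m' ≠ 0)
    (e' : A ≃ₐ[k] Matrix (Fin m') (Fin m') D') :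
    Nonempty (QuaternionAlgebra k a 0 b ≃ₐ[k] D') := by
  have hm : m ≠ 0 := size_ne_zero e
  letI dQ : DivisionRing (QuaternionAlgebra k a 0 b) :=
    DivisionRing.ofIsUnitOrEqZero (fun x => (em (x = 0)).symm.imp (hQ x) id)
  haveI : Algebra.IsCentral k (Matrix (Fin m) (Fin m) (QuaternionAlgebra k a 0 b)) :=
    Groth.Agent.Helper20.PerInd.isCentral_of_algEquiv e
  haveI : Algebra.IsCentral k (QuaternionAlgebra k a 0 b) :=
    Groth.Agent.Helper20.CycAlg.isCentral_of_matrix k _ m (Nat.pos_of_ne_zero hm)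
  exact Groth.Agent.S0193.result k (QuaternionAlgebra k a 0 b) D' m m' hm hm' (e.symm.trans e')

theorem quat_unique (a b a' b' : k) (m m' : ℕ)
    (hQ : ∀ x : QuaternionAlgebra k a 0 b, x ≠ 0 → IsUnit x)
    (hQ' : ∀ x : QuaternionAlgebra k a' 0 b', x ≠ 0 → IsUnit x)
    (e : A ≃ₐ[k] Matrix (Fin m) (Fin m) (QuaternionAlgebra k a 0 b))
    (e' : A ≃ₐ[k] Matrix (Fin m') (Fin m') (QuaternionAlgebra k a' 0 b')) :
    Nonempty (QuaternionAlgebra k a 0 b ≃ₐ[k] QuaternionAlgebra k a' 0 b') := by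
  have hm' : m' ≠ 0 := size_ne_zero e'
  letI dQ' : DivisionRing (QuaternionAlgebra k a' 0 b') :=
    DivisionRing.ofIsUnitOrEqZero (fun x => (em (x = 0)).symm.imp (hQ' x) id)
  haveI : Algebra.IsCentral k (Matrix (Fin m') (Fin m') (QuaternionAlgebra k a' 0 b')) :=
    Groth.Agent.Helper20.PerInd.isCentral_of_algEquiv e'
  haveI : Algebra.IsCentral k (QuaternionAlgebra k a' 0 b') :=
    Groth.Agent.Helper20.CycAlg.isCentral_of_matrix k _ m' (Nat.pos_of_ne_zero hm')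
  exact quat_unique_div a b m hQ e m' hm' e'

open Groth.Agent.Helper20.PerInd in
theorem isIndex_isPeriod_two_of_quat (a b : k) (m : ℕ)
    (hQ : ∀ x : QuaternionAlgebra k a 0 b, x ≠ 0 → IsUnit x)
    (e : A ≃ₐ[k] Matrix (Fin m) (Fin m) (QuaternionAlgebra k a 0 b)) :
    CSAGal.IsIndex k A 2 ∧ CSAGal.IsPeriod k A 2 := by
  obtain ⟨d, hd⟩ := exists_isIndex k A
  obtain ⟨m', D', _, _, _, _, hd0, hm', hdD', ⟨iso'⟩⟩ := IsIndex.exists hd
  obtain ⟨g⟩ := quat_unique_div a b m hQ e m' hm'.ne' iso'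
  have h4 : Module.finrank k D' = 4 := by
    rw [← g.toLinearEquiv.finrank_eq, QuaternionAlgebra.finrank_eq_four]
  have hd2 : d = 2 := by
    have h : d ^ 2 = 2 ^ 2 := by rw [← hdD', h4]; norm_num
    exact Nat.pow_left_injective (n := 2) (by norm_num) h
  subst hd2
  refine ⟨hd, by norm_num, splits_tpow_index iso' hdD', ?_⟩
  intro e' h1 h2 hs
  obtain rfl : e' = 1 := by omega
  have hper : CSAGal.IsPeriod k A 1 := ⟨one_pos, hs, fun e'' h3 h4 => by omega⟩
  have h5 := (period_index hd hper).2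
  norm_num at h5

theorem exists_quat_of_isIndex_two (h2 : (2 : k) ≠ 0) (hidx : CSAGal.IsIndex k A 2) :
    ∃ (a b : k) (m : ℕ), 0 < m ∧ (∀ x : QuaternionAlgebra k a 0 b, x ≠ 0 → IsUnit x) ∧
      Nonempty (A ≃ₐ[k] Matrix (Fin m) (Fin m) (QuaternionAlgebra k a 0 b)) := by
  obtain ⟨m, D, _, _, _, _, hd0, hm, hdD, ⟨iso⟩⟩ :=
    Groth.Agent.Helper20.PerInd.IsIndex.exists hidx
  have h4 : Module.finrank k D = 4 := by rw [hdD]; norm_num
  obtain ⟨a, b, ⟨ψ⟩⟩ := exists_quaternion h2 h4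
  refine ⟨a, b, m, hm, ?_, ⟨iso.trans (AlgEquiv.mapMatrix ψ.symm)⟩⟩
  intro x hx
  have h1 : ψ x ≠ 0 := fun h => hx ((map_eq_zero_iff ψ ψ.injective).1 h)
  have h3 : IsUnit (ψ x) := isUnit_iff_ne_zero.2 h1
  have h5 := h3.map ψ.symm
  rwa [AlgEquiv.symm_apply_apply] at h5

end

end Groth.Agent.Helper19.Quat
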