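import Mathlib
import Groth.Agent.Lib.Helper17.SN2
import Groth.Agent.Lib.Helper19.Dix.Spread

/-!
# Brauer-triviality over a separable algebraic extension versus splitting of restrictions

`a_imp_b` and `b_imp_a` are the two directions of S18519.
-/

set_option autoImplicit false
open scoped TensorProduct IntermediateField

namespace Groth.Agent.Helper19.BrSep

universe u

/-- `M ⊗[R] Matrix n n R ≃ₐ[M] Matrix n n M`. -/
noncomputable def tensorMatrixEquiv (R M : Type*) [CommRing R] [CommRing M] [Algebra R M]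
    (n : Type*) [Fintype n] [DecidableEq n] :
    (M ⊗[R] Matrix n n R) ≃ₐ[M] Matrix n n M :=
  AlgEquiv.ofRingEquiv (f := (matrixEquivTensor n R M).symm.toRingEquiv) (by
    intro m
    rw [Algebra.TensorProduct.algebraMap_apply]
    change (matrixEquivTensor n R M).symm (algebraMap M M m ⊗ₜ[R] (1 : Matrix n n R)) = _
    rw [matrixEquivTensor_apply_symm, Matrix.map_one _ (map_zero _) (map_one _),
      Algebra.algebraMap_self, RingHom.id_apply, Algebra.algebraMap_eq_smul_one])

theorem isCentral_of_matrix (F : Type*) [Field F] (D : Type*) [DivisionRing D] [Algebra F D]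
    (n : ℕ) [NeZero n] [Algebra.IsCentral F (Matrix (Fin n) (Fin n) D)] :
    Algebra.IsCentral F D := by
  constructor
  intro x hx
  rw [Subalgebra.mem_center_iff] at hx
  have h1 : Matrix.scalar (Fin n) x ∈ Subalgebra.center F (Matrix (Fin n) (Fin n) D) := by
    rw [Subalgebra.mem_center_iff]
    intro Y
    exact ((Matrix.scalar_commute x (fun r => (hx r).symm) Y).eq).symm
  obtain ⟨c, hc⟩ := (Algebra.IsCentral.mem_center_iff F).mp h1
  rw [Algebra.mem_bot]
  refine ⟨c, ?_⟩
  have h2 := congrFun (congrFun hc 0) 0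
  rw [Matrix.scalar_apply, Matrix.diagonal_apply_eq, Matrix.algebraMap_matrix_apply,
    if_pos rfl] at h2
  exact h2.symm

theorem split_of_trivial (E : Type u) [Field E] (D : Type u) [DivisionRing D] [Algebra E D]
    [Algebra.IsCentral E D] [FiniteDimensional E D]
    (F₁ : Type u) [Field F₁] [Algebra E F₁]
    (hF₁ : ∀ (D₁ : Type u) [DivisionRing D₁] [Algebra F₁ D₁] [Algebra.IsCentral F₁ D₁]
      [FiniteDimensional F₁ D₁], Module.finrank F₁ D₁ = 1)
    (M : Type u) [Field M] [Algebra E M] [Algebra F₁ M] [IsScalarTower E F₁ M] :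
    ∃ n : ℕ, Nonempty ((M ⊗[E] D) ≃ₐ[M] Matrix (Fin n) (Fin n) M) := by
  haveI : IsSimpleRing (F₁ ⊗[E] D) := Groth.Agent.Helper17.isSimpleRing_tensor E F₁ D
  haveI : Algebra.IsCentral F₁ (F₁ ⊗[E] D) := Groth.Agent.Helper17.isCentral_baseChange E F₁ D
  haveI : Module.Finite F₁ (F₁ ⊗[E] D) := inferInstance
  haveI : IsArtinianRing (F₁ ⊗[E] D) := IsArtinianRing.of_finite F₁ _
  obtain ⟨n, hn, D₁, hD₁, hA₁, hfin, ⟨e⟩⟩ :=
    IsSimpleRing.exists_algEquiv_matrix_divisionRing_finite F₁ (F₁ ⊗[E] D)
  haveI : Algebra.IsCentral F₁ (Matrix (Fin n) (Fin n) D₁) :=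
    Algebra.IsCentral.of_algEquiv F₁ _ _ e
  haveI : Algebra.IsCentral F₁ D₁ := isCentral_of_matrix F₁ D₁ n
  have h1 : Module.finrank F₁ D₁ = 1 := hF₁ D₁
  have hbt : (⊥ : Subalgebra F₁ D₁) = ⊤ := Subalgebra.bot_eq_top_of_finrank_eq_one h1
  have hbij : Function.Bijective (Algebra.ofId F₁ D₁) := by
    refine ⟨(algebraMap F₁ D₁).injective, fun x => ?_⟩
    have hx : x ∈ (⊥ : Subalgebra F₁ D₁) := by rw [hbt]; exact Algebra.mem_top
    rw [Algebra.mem_bot] at hx
    exact hx
  let e₁ : F₁ ≃ₐ[F₁] D₁ := AlgEquiv.ofBijective (Algebra.ofId F₁ D₁) hbij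
  let e₂ : (F₁ ⊗[E] D) ≃ₐ[F₁] Matrix (Fin n) (Fin n) F₁ := e.trans (AlgEquiv.mapMatrix e₁.symm)
  refine ⟨n, ⟨?_⟩⟩
  exact ((Dix.cancelBaseChangeAlg E F₁ M D).symm.trans
    (Algebra.TensorProduct.congr (AlgEquiv.refl : M ≃ₐ[M] M) e₂)).trans
    (tensorMatrixEquiv F₁ M (Fin n))

theorem a_imp_b (K F : Type u) [Field K] [Field F] [Algebra K F] [Algebra.IsSeparable K F]
    (ha : ∀ (F' : Type u) [Field F'] [Algebra F F'] [FiniteDimensional F F']
        [Algebra.IsSeparable F F']
        (D : Type u) [DivisionRing D] [Algebra F' D] [Algebra.IsCentral F' D]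
        [FiniteDimensional F' D], Module.finrank F' D = 1)
    (E : Type u) [Field E] [Algebra K E] [FiniteDimensional K E] [Algebra.IsSeparable K E]
    (D : Type u) [DivisionRing D] [Algebra E D] [Algebra.IsCentral E D] [FiniteDimensional E D]
    (M : Type u) [Field M] [Algebra K M] [Algebra E M] [Algebra F M] [IsScalarTower K E M]
    [IsScalarTower K F M] :
    ∃ n : ℕ, Nonempty ((M ⊗[E] D) ≃ₐ[M] Matrix (Fin n) (Fin n) M) := by
  obtain ⟨α, hα⟩ := Field.exists_primitive_element K E
  let φ : E →ₐ[K] M := IsScalarTower.toAlgHom K E M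
  have hφ : Function.Injective φ := (algebraMap E M).injective
  have hβK : IsIntegral K (algebraMap E M α) :=
    (Algebra.IsIntegral.isIntegral (R := K) α).algebraMap
  have hβF : IsIntegral F (algebraMap E M α) := hβK.tower_top
  have hsepK : IsSeparable K (algebraMap E M α) :=
    IsSeparable.map φ hφ (Algebra.IsSeparable.isSeparable K α)
  have hsepF : IsSeparable F (algebraMap E M α) := IsSeparable.tower_top F hsepK
  let F₁ : IntermediateField F M := F⟮algebraMap E M α⟯
  haveI : FiniteDimensional F F₁ := IntermediateField.adjoin.finiteDimensional hβF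
  haveI : Algebra.IsSeparable F F₁ :=
    (IntermediateField.isSeparable_adjoin_simple_iff_isSeparable F M).2 hsepF
  have hmem : ∀ x : E, algebraMap E M x ∈ F₁ := by
    intro x
    have h1 : (⊤ : IntermediateField K E) ≤ (F₁.restrictScalars K).comap φ := by
      rw [← hα, IntermediateField.adjoin_le_iff]
      rintro y hy
      rw [Set.mem_singleton_iff] at hy
      subst hy
      show φ y ∈ F₁.restrictScalars K
      exact IntermediateField.mem_adjoin_simple_self F (algebraMap E M y)
    exact h1 (IntermediateField.mem_top : x ∈ ⊤)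
  letI : Algebra E F₁ := ((algebraMap E M).codRestrict F₁ hmem).toAlgebra
  haveI : IsScalarTower E F₁ M := IsScalarTower.of_algebraMap_eq (fun x => rfl)
  exact split_of_trivial E D F₁ (fun D₁ _ _ _ _ => ha F₁ D₁) M

theorem n_eq_one_of_domain (F' : Type*) [Field F'] (D : Type*) [DivisionRing D] [Algebra F' D]
    (n : ℕ) (e : D ≃ₐ[F'] Matrix (Fin n) (Fin n) F') : n = 1 := by
  rcases Nat.lt_or_ge n 2 with h | h
  · interval_cases n
    · exfalso
      have h0 : e 1 = e 0 := Subsingleton.elim _ _
      exact one_ne_zero (e.injective h0)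
    · rfl
  · exfalso
    let i : Fin n := ⟨0, by omega⟩
    let j : Fin n := ⟨1, by omega⟩
    have hij : i ≠ j := by
      intro h'
      have := congrArg Fin.val h'
      simp [i, j] at this
    have hXX : (Matrix.single i j (1 : F') : Matrix (Fin n) (Fin n) F') * Matrix.single i j 1 = 0 :=
      Matrix.single_mul_single_of_ne (1 : F') i j i hij.symm 1
    have hx : e.symm (Matrix.single i j 1) * e.symm (Matrix.single i j 1) = 0 := by
      rw [← map_mul, hXX, map_zero]
    have hx0 : e.symm (Matrix.single i j 1) = 0 := mul_self_eq_zero.1 hx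
    have hX0 : (Matrix.single i j (1 : F') : Matrix (Fin n) (Fin n) F') = 0 := by
      have := congrArg e hx0
      rwa [AlgEquiv.apply_symm_apply, map_zero] at this
    have h3 := congrFun (congrFun hX0 i) j
    rw [Matrix.single_apply_same] at h3
    exact one_ne_zero h3

theorem b_imp_a (K F : Type u) [Field K] [Field F] [Algebra K F] [Algebra.IsSeparable K F]
    (hb : ∀ (E : Type u) [Field E] [Algebra K E] [FiniteDimensional K E] [Algebra.IsSeparable K E]
        (D : Type u) [DivisionRing D] [Algebra E D] [Algebra.IsCentral E D] [FiniteDimensional E D]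
        (M : Type u) [Field M] [Algebra K M] [Algebra E M] [Algebra F M] [IsScalarTower K E M]
        [IsScalarTower K F M],
        ∃ n : ℕ, Nonempty ((M ⊗[E] D) ≃ₐ[M] Matrix (Fin n) (Fin n) M))
    (F' : Type u) [Field F'] [Algebra F F'] [FiniteDimensional F F'] [Algebra.IsSeparable F F']
    (D : Type u) [DivisionRing D] [Algebra F' D] [Algebra.IsCentral F' D]
    [FiniteDimensional F' D] :
    Module.finrank F' D = 1 := by
  classical
  letI : Algebra K F' := ((algebraMap F F').comp (algebraMap K F)).toAlgebra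
  haveI : IsScalarTower K F F' := IsScalarTower.of_algebraMap_eq (fun _ => rfl)
  haveI : Algebra.IsSeparable K F' := Algebra.IsSeparable.trans K F F'
  let b := Module.finBasis F' D
  let S : Set F' :=
    Set.range (fun p : Fin (Module.finrank F' D) × Fin (Module.finrank F' D) ×
        Fin (Module.finrank F' D) => b.repr (b p.1 * b p.2.1) p.2.2) ∪
      Set.range (fun k => b.repr 1 k)
  have hSfin : S.Finite := (Set.finite_range _).union (Set.finite_range _)
  haveI : Finite S := hSfin.to_subtype
  let E : IntermediateField K F' := IntermediateField.adjoin K S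
  haveI : FiniteDimensional K E :=
    IntermediateField.finiteDimensional_adjoin (fun x _ => Algebra.IsIntegral.isIntegral x)
  have hc : ∀ i j k, b.repr (b i * b j) k ∈ E := fun i j k =>
    IntermediateField.subset_adjoin K S (Or.inl ⟨(i, j, k), rfl⟩)
  have hu : ∀ k, b.repr 1 k ∈ E := fun k =>
    IntermediateField.subset_adjoin K S (Or.inr ⟨k, rfl⟩)
  -- the `E`-span of the basis
  let P : Submodule E D := Submodule.span E (Set.range b)
  have hbP : ∀ i, b i ∈ P := fun i => Submodule.subset_span ⟨i, rfl⟩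
  have hsm : ∀ (c : F') (_ : c ∈ E) (v : D), v ∈ P → c • v ∈ P := fun c hc v hv =>
    P.smul_mem (⟨c, hc⟩ : E) hv
  have h_one : (1 : D) ∈ P := by
    have h1 : (∑ k, b.repr 1 k • b k) ∈ P :=
      Submodule.sum_mem _ (fun k _ => hsm _ (hu k) _ (hbP k))
    rwa [b.sum_repr] at h1
  have h_bb : ∀ i j, b i * b j ∈ P := by
    intro i j
    have h1 : (∑ k, b.repr (b i * b j) k • b k) ∈ P :=
      Submodule.sum_mem _ (fun k _ => hsm _ (hc i j k) _ (hbP k))
    rwa [b.sum_repr] at h1
  have h_mul : ∀ x y : D, x ∈ P → y ∈ P → x * y ∈ P := by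
    intro x y hx hy
    induction hx using Submodule.span_induction with
    | mem x hx =>
      obtain ⟨i, rfl⟩ := hx
      induction hy using Submodule.span_induction with
      | mem y hy => obtain ⟨j, rfl⟩ := hy; exact h_bb i j
      | zero => rw [mul_zero]; exact P.zero_mem
      | add y z _ _ hy hz => rw [mul_add]; exact P.add_mem hy hz
      | smul c y _ hy => rw [mul_smul_comm]; exact P.smul_mem c hy
    | zero => rw [zero_mul]; exact P.zero_mem
    | add x z _ _ hx hz => rw [add_mul]; exact P.add_mem hx hz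
    | smul c x _ hx => rw [smul_mul_assoc]; exact P.smul_mem c hx
  let D₀ : Subalgebra E D := P.toSubalgebra h_one h_mul
  have hD₀P : Subalgebra.toSubmodule D₀ = P := Submodule.toSubalgebra_toSubmodule P h_one h_mul
  haveI : FiniteDimensional E D₀ := by
    haveI h1 : Module.Finite E (Subalgebra.toSubmodule D₀) := by
      rw [hD₀P]; exact Module.Finite.span_of_finite E (Set.finite_range b)
    exact Module.Finite.equiv (Subalgebra.toSubmoduleEquiv D₀)
  letI : DivisionRing D₀ := divisionRingOfFiniteDimensional E D₀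
  haveI : Algebra.IsCentral E D₀ := by
    constructor
    intro x hx
    rw [Subalgebra.mem_center_iff] at hx
    have hxb : ∀ i, b i * x.1 = x.1 * b i := fun i =>
      congrArg Subtype.val (hx ⟨b i, hbP i⟩)
    have hxc : x.1 ∈ Subalgebra.center F' D := by
      rw [Subalgebra.mem_center_iff]
      intro y
      rw [← b.sum_repr y, Finset.sum_mul, Finset.mul_sum]
      refine Finset.sum_congr rfl fun i _ => ?_
      rw [smul_mul_assoc, mul_smul_comm, hxb i]
    obtain ⟨c, hcx⟩ := (Algebra.IsCentral.mem_center_iff F').mp hxc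
    have hxP : x.1 ∈ P := x.2
    obtain ⟨ev, hev⟩ := (Submodule.mem_span_range_iff_exists_fun E).mp hxP
    have h3 : (∑ i, ((ev i : F')) • b i) = x.1 := hev
    have hrepr : ∀ k, b.repr x.1 k = (ev k : F') := by
      intro k
      have h4 := congrFun (b.repr_sum_self (fun i => (ev i : F'))) k
      rw [h3] at h4
      exact h4
    have hrepr2 : ∀ k, b.repr x.1 k = c * b.repr 1 k := by
      intro k
      rw [hcx, Algebra.algebraMap_eq_smul_one, map_smul, Finsupp.smul_apply, smul_eq_mul]
    obtain ⟨k, hk⟩ : ∃ k, b.repr 1 k ≠ 0 := by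
      by_contra hcon
      push Not at hcon
      have h5 : b.repr (1 : D) = 0 := Finsupp.ext hcon
      exact one_ne_zero ((LinearEquiv.map_eq_zero_iff _).1 h5)
    have hcE : c ∈ E := by
      have h5 : c = (ev k : F') / b.repr 1 k := by
        rw [eq_div_iff hk, ← hrepr2 k, hrepr k]
      rw [h5]
      exact E.div_mem (ev k).2 (hu k)
    rw [Algebra.mem_bot]
    refine ⟨⟨c, hcE⟩, Subtype.ext ?_⟩
    rw [hcx]
    rfl
  obtain ⟨n, ⟨e⟩⟩ := hb E D₀ F'
  obtain ⟨ψ, hψ⟩ : ∃ ψ : F' ⊗[E] D₀ →ₐ[F'] D, ∀ (a : F') (d : D₀), ψ (a ⊗ₜ d) = a • d.1 :=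
    ⟨Algebra.TensorProduct.lift (Algebra.ofId F' D) D₀.val
      (fun x y => Algebra.commute_algebraMap_left x y.1), fun a d => by
        rw [Algebra.TensorProduct.lift_tmul, Algebra.smul_def]; rfl⟩
  have hψsurj : Function.Surjective ψ := by
    have h1 : (⊤ : Submodule F' D) ≤ LinearMap.range ψ.toLinearMap := by
      rw [← b.span_eq, Submodule.span_le]
      rintro _ ⟨i, rfl⟩
      exact ⟨(1 : F') ⊗ₜ[E] (⟨b i, hbP i⟩ : D₀), by
        show ψ _ = _
        rw [hψ, one_smul]⟩
    intro y
    obtain ⟨z, hz⟩ := h1 (Submodule.mem_top : y ∈ ⊤)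
    exact ⟨z, hz⟩
  have hli : LinearIndependent E b := b.linearIndependent.restrict_scalars (by
    intro r s hrs
    have h' : (r : F') * 1 = (s : F') * 1 := hrs
    rw [mul_one, mul_one] at h'
    exact Subtype.ext h')
  have hfr : Module.finrank E D₀ = Module.finrank F' D := by
    have h1 := finrank_span_eq_card (R := E) hli
    rw [Fintype.card_fin] at h1
    have h2 := LinearEquiv.finrank_eq (Subalgebra.toSubmoduleEquiv D₀)
    rw [hD₀P] at h2
    rw [← h2]
    exact h1
  have hψbij : Function.Bijective ψ := by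
    have hfr2 : Module.finrank F' (F' ⊗[E] D₀) = Module.finrank F' D := by
      rw [Module.finrank_baseChange, hfr]
    have hinj := (LinearMap.injective_iff_surjective_of_finrank_eq_finrank
      (f := ψ.toLinearMap) hfr2).2 hψsurj
    exact ⟨hinj, hψsurj⟩
  let e' : D ≃ₐ[F'] Matrix (Fin n) (Fin n) F' := (AlgEquiv.ofBijective ψ hψbij).symm.trans e
  have hn : n = 1 := n_eq_one_of_domain F' D n e'
  subst hn
  rw [LinearEquiv.finrank_eq e'.toLinearEquiv]
  simp [Module.finrank_matrix]

end Groth.Agent.Helper19.BrSep
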